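import Mathlib
import Groth.Agent.Lib.WeilAff.Basic
import Groth.Prelude.Def_WeilRes

/-!
# Affine charts of Weil restrictions along finite locally free morphisms
-/

set_option autoImplicit false
set_option backward.isDefEq.respectTransparency false
set_option backward.isDefEq.respectTransparency.types false

universe u

open CategoryTheory CategoryTheory.Limits AlgebraicGeometry Opposite TensorProduct

noncomputable section

namespace GrothLib.WeilHomeo4

variable {S S' : Scheme.{u}} (f : S' ⟶ S) (X' : Over S')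

/-- Points of the Weil restriction. -/
abbrev Pt (T : Over S) : Type u := (Over.pullback f).obj T ⟶ X'

theorem isPullback_map {T T' : Over S} (k : T' ⟶ T) :
    IsPullback ((Over.pullback f).map k).left (pullback.fst T'.hom f) (pullback.fst T.hom f) k.left := by
  refine IsPullback.of_right ?_ ?_ (IsPullback.of_hasPullback T.hom f).flip
  · have e : ((Over.pullback f).map k).left ≫ pullback.snd T.hom f = pullback.snd T'.hom f :=
      Over.w ((Over.pullback f).map k)
    rw [e, Over.w k]
    exact (IsPullback.of_hasPullback T'.hom f).flip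
  · simp [Over.pullback]

/-- Weil restriction points are local. -/
theorem pt_ext {T : Over S} {a b : Pt f X' T} {ι : Type u} {T' : ι → Over S} (k : ∀ i, T' i ⟶ T)
    [∀ i, IsOpenImmersion (k i).left] (hcov : ∀ z : T.left, ∃ i, z ∈ Set.range (k i).left)
    (h : ∀ i, (Over.pullback f).map (k i) ≫ a = (Over.pullback f).map (k i) ≫ b) : a = b := by
  haveI : ∀ i, IsOpenImmersion ((Over.pullback f).map (k i)).left := fun i =>
    MorphismProperty.of_isPullback (P := @IsOpenImmersion) (isPullback_map f (k i)).flip inferInstance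
  have hs : ∀ w : ((Over.pullback f).obj T).left, ∃ i, w ∈ Set.range ((Over.pullback f).map (k i)).left := fun w => by
    obtain ⟨i, t, ht⟩ := hcov ((pullback.fst T.hom f).base w)
    obtain ⟨w', hw', -⟩ := Scheme.exists_preimage_of_isPullback (isPullback_map f (k i)) w t ht.symm
    exact ⟨i, w', hw'⟩
  refine Over.OverMorphism.ext (Scheme.hom_ext_of_forall _ _ fun w => ?_)
  obtain ⟨i, hi⟩ := hs w
  refine ⟨((Over.pullback f).map (k i)).left.opensRange, hi, ?_⟩
  rw [← cancel_epi ((Over.pullback f).map (k i)).left.isoOpensRange.hom]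
  simp only [← Category.assoc, Scheme.Hom.isoOpensRange_hom_ι]
  exact congrArg CommaMorphism.left (h i)

/-- An affine chart. -/
structure Chart (B B' A : Type u) [CommRing B] [CommRing B'] [Algebra B B'] [CommRing A] [Algebra B' A] where
  /-- the open of the base -/
  j : Spec (CommRingCat.of B) ⟶ S
  /-- its preimage -/
  j' : Spec (CommRingCat.of B') ⟶ S'
  /-- the open of the scheme -/
  v : Spec (CommRingCat.of A) ⟶ X'.left
  open_j : IsOpenImmersion j
  open_j' : IsOpenImmersion j'
  open_v : IsOpenImmersion v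
  sq : IsPullback j' (Spec.map (CommRingCat.ofHom (algebraMap B B'))) f j
  comp_v : v ≫ X'.hom = Spec.map (CommRingCat.ofHom (algebraMap B' A)) ≫ j'
  /-- coordinates -/
  κ : GrothLib.WeilAff.Coords B B'

attribute [instance] Chart.open_j Chart.open_j' Chart.open_v

namespace Chart

variable {f X'} {B B' A : Type u} [CommRing B] [CommRing B'] [Algebra B B'] [CommRing A] [Algebra B' A]
  (K : Chart f X' B B' A)

/-- An affine test scheme. -/
abbrev TC (C : Type u) [CommRing C] [Algebra B C] : Over S :=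
  Over.mk (Spec.map (CommRingCat.ofHom (algebraMap B C)) ≫ K.j)

theorem sqC (C : Type u) [CommRing C] [Algebra B C] :
    IsPullback (Spec.map (CommRingCat.ofHom (Algebra.TensorProduct.includeRight : C →ₐ[B] B' ⊗[B] C).toRingHom))
      (Spec.map (CommRingCat.ofHom (Algebra.TensorProduct.includeLeftRingHom : B' →+* B' ⊗[B] C)) ≫ K.j')
      (Spec.map (CommRingCat.ofHom (algebraMap B C)) ≫ K.j) f := by
  refine IsPullback.paste_vert ?_ K.sq.flip
  exact (IsPullback.of_iso_pullback
    ⟨by
      rw [← cancel_epi (pullbackSpecIso B B' C).hom]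
      simp only [← Category.assoc, pullbackSpecIso_hom_fst, pullbackSpecIso_hom_snd, pullback.condition]⟩
    (pullbackSpecIso B B' C).symm (pullbackSpecIso_inv_fst B B' C) (pullbackSpecIso_inv_snd B B' C)).flip

/-- The base change of an affine test scheme. -/
def iso (C : Type u) [CommRing C] [Algebra B C] :
    Spec (CommRingCat.of (B' ⊗[B] C)) ≅ pullback (K.TC C).hom f := (K.sqC C).isoPullback

theorem iso_fst (C : Type u) [CommRing C] [Algebra B C] :
    (K.iso C).hom ≫ pullback.fst (K.TC C).hom f =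
      Spec.map (CommRingCat.ofHom (Algebra.TensorProduct.includeRight : C →ₐ[B] B' ⊗[B] C).toRingHom) :=
  (K.sqC C).isoPullback_hom_fst

theorem iso_snd (C : Type u) [CommRing C] [Algebra B C] :
    (K.iso C).hom ≫ pullback.snd (K.TC C).hom f =
      Spec.map (CommRingCat.ofHom (Algebra.TensorProduct.includeLeftRingHom : B' →+* B' ⊗[B] C)) ≫ K.j' :=
  (K.sqC C).isoPullback_hom_snd

/-- Points from algebra maps. -/
def elt {C : Type u} [CommRing C] [Algebra B C] (φ : A →ₐ[B'] B' ⊗[B] C) : Pt f X' (K.TC C) :=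
  Over.homMk ((K.iso C).inv ≫ Spec.map (CommRingCat.ofHom φ.toRingHom) ≫ K.v) (by
    change ((K.iso C).inv ≫ _ ≫ _) ≫ X'.hom = pullback.snd _ _
    rw [Category.assoc, Category.assoc, K.comp_v, Iso.inv_comp_eq, K.iso_snd, ← Spec.map_comp_assoc,
      ← CommRingCat.ofHom_comp]
    congr 3
    exact φ.comp_algebraMap)

theorem elt_left {C : Type u} [CommRing C] [Algebra B C] (φ : A →ₐ[B'] B' ⊗[B] C) :
    (K.iso C).hom ≫ (K.elt φ).left = Spec.map (CommRingCat.ofHom φ.toRingHom) ≫ K.v :=
  (K.iso C).hom_inv_id_assoc _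

/-- Maps of test schemes. -/
def Tmap {C D : Type u} [CommRing C] [Algebra B C] [CommRing D] [Algebra B D] (θ : C →ₐ[B] D) :
    K.TC D ⟶ K.TC C :=
  Over.homMk (Spec.map (CommRingCat.ofHom θ.toRingHom)) (by
    change Spec.map _ ≫ Spec.map _ ≫ K.j = Spec.map _ ≫ K.j
    rw [← Spec.map_comp_assoc, ← CommRingCat.ofHom_comp]
    congr 3
    exact θ.comp_algebraMap)

theorem exists_Tmap {C D : Type u} [CommRing C] [Algebra B C] [CommRing D] [Algebra B D]
    (x : K.TC D ⟶ K.TC C) : ∃ θ : C →ₐ[B] D, K.Tmap θ = x := by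
  refine ⟨AlgHom.mk (Spec.preimage x.left).hom fun r => ?_, Over.OverMorphism.ext (Spec.map_preimage _)⟩
  have h : CommRingCat.ofHom (algebraMap B C) ≫ Spec.preimage x.left = CommRingCat.ofHom (algebraMap B D) := by
    apply Spec.map_injective
    rw [Spec.map_comp, Spec.map_preimage, ← cancel_mono K.j, Category.assoc]
    exact Over.w x
  exact DFunLike.congr_fun (congrArg CommRingCat.Hom.hom h) r

theorem map_elt {C D : Type u} [CommRing C] [Algebra B C] [CommRing D] [Algebra B D] (θ : C →ₐ[B] D)
    (φ : A →ₐ[B'] B' ⊗[B] C) :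
    (Over.pullback f).map (K.Tmap θ) ≫ K.elt φ =
      K.elt ((Algebra.TensorProduct.map (AlgHom.id B' B') θ).comp φ) := by
  apply Over.OverMorphism.ext
  rw [← cancel_epi (K.iso D).hom, K.elt_left, Over.comp_left]
  have h : (K.iso D).hom ≫ ((Over.pullback f).map (K.Tmap θ)).left =
      Spec.map (CommRingCat.ofHom (Algebra.TensorProduct.map (AlgHom.id B' B') θ).toRingHom) ≫ (K.iso C).hom := by
    apply pullback.hom_ext
    · rw [Category.assoc, Category.assoc, K.iso_fst,
        show ((Over.pullback f).map (K.Tmap θ)).left ≫ pullback.fst (K.TC C).hom f =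
          pullback.fst (K.TC D).hom f ≫ (K.Tmap θ).left from (isPullback_map f (K.Tmap θ)).w,
        ← Category.assoc, K.iso_fst]
      change Spec.map _ ≫ Spec.map _ = Spec.map _ ≫ Spec.map _
      rw [← Spec.map_comp, ← Spec.map_comp, ← CommRingCat.ofHom_comp, ← CommRingCat.ofHom_comp]
      congr 2
    · rw [Category.assoc, Category.assoc, K.iso_snd,
        show ((Over.pullback f).map (K.Tmap θ)).left ≫ pullback.snd (K.TC C).hom f =
          pullback.snd (K.TC D).hom f from Over.w _,
        K.iso_snd, ← Spec.map_comp_assoc, ← CommRingCat.ofHom_comp]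
      congr 3
      exact RingHom.ext fun c => by simp
  rw [reassoc_of% h, K.elt_left, ← Spec.map_comp_assoc, ← CommRingCat.ofHom_comp]
  rfl

theorem elt_injective {C : Type u} [CommRing C] [Algebra B C] :
    Function.Injective (fun φ : A →ₐ[B'] B' ⊗[B] C => K.elt φ) := by
  intro φ ψ h
  have h1 : (K.iso C).hom ≫ (K.elt φ).left = (K.iso C).hom ≫ (K.elt ψ).left := by rw [show K.elt φ = K.elt ψ from h]
  rw [K.elt_left, K.elt_left, cancel_mono] at h1
  exact AlgHom.ext fun a => DFunLike.congr_fun (congrArg CommRingCat.Hom.hom (Spec.map_injective h1)) a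

theorem exists_elt {C : Type u} [CommRing C] [Algebra B C] (a : Pt f X' (K.TC C))
    (ha : ∀ w, a.left w ∈ Set.range K.v) : ∃ φ : A →ₐ[B'] B' ⊗[B] C, K.elt φ = a := by
  have hr : Set.range ((K.iso C).hom ≫ a.left) ⊆ Set.range K.v := by
    rintro _ ⟨w, rfl⟩
    exact ha _
  let l := IsOpenImmersion.lift K.v ((K.iso C).hom ≫ a.left) hr
  refine ⟨AlgHom.mk (Spec.preimage l).hom fun r => ?_, ?_⟩
  · have h : CommRingCat.ofHom (algebraMap B' A) ≫ Spec.preimage l =
        CommRingCat.ofHom (Algebra.TensorProduct.includeLeftRingHom : B' →+* B' ⊗[B] C) := by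
      apply Spec.map_injective
      rw [Spec.map_comp, Spec.map_preimage, ← cancel_mono K.j', Category.assoc, ← K.comp_v, ← Category.assoc,
        IsOpenImmersion.lift_fac, Category.assoc]
      exact (congrArg ((K.iso C).hom ≫ ·) (Over.w a)).trans (K.iso_snd C)
    exact DFunLike.congr_fun (congrArg CommRingCat.Hom.hom h) r
  · apply Over.OverMorphism.ext
    rw [← cancel_epi (K.iso C).hom, K.elt_left]
    change Spec.map (Spec.preimage l) ≫ K.v = _
    rw [Spec.map_preimage, IsOpenImmersion.lift_fac]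

/-- The representing object of the chart. -/
abbrev Z : Over S := K.TC (K.κ.W A)

/-- The universal point of the chart. -/
def univ : Pt f X' K.Z := K.elt (K.κ.univ A)

theorem map_univ {C : Type u} [CommRing C] [Algebra B C] (θ : K.κ.W A →ₐ[B] C) :
    (Over.pullback f).map (K.Tmap θ) ≫ K.univ = K.elt (K.κ.push θ) := K.map_elt θ _

/-- An affine open of a scheme over the open of the chart, as a test scheme. -/
theorem exists_TC {T : Over S} (hT : ∀ z : T.left, T.hom z ∈ Set.range K.j) (z : T.left) :
    ∃ (C : Type u) (_ : CommRing C) (_ : Algebra B C) (k : K.TC C ⟶ T), IsOpenImmersion k.left ∧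
      z ∈ Set.range k.left := by
  obtain ⟨W, hW, hzW, -⟩ := exists_isAffineOpen_mem_and_subset (x := z) (U := ⊤) trivial
  let R := Γ(T.left, W)
  let g := hW.fromSpec
  have hg : IsOpenImmersion g := inferInstance
  have hz : z ∈ Set.range g := by rw [hW.range_fromSpec]; exact hzW
  let l := IsOpenImmersion.lift K.j (g ≫ T.hom) (by rintro _ ⟨w, rfl⟩; exact hT _)
  letI : Algebra B R := (Spec.preimage l).hom.toAlgebra
  refine ⟨R, inferInstance, inferInstance, Over.homMk g ?_, hg, hz⟩
  change g ≫ T.hom = Spec.map (CommRingCat.ofHom (algebraMap B R)) ≫ K.j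
  rw [RingHom.algebraMap_toAlgebra]
  change _ = Spec.map (Spec.preimage l) ≫ K.j
  rw [Spec.map_preimage, IsOpenImmersion.lift_fac]

/-- Uniqueness of the classifying map. -/
theorem hom_ext {T : Over S} {h h' : T ⟶ K.Z}
    (e : (Over.pullback f).map h ≫ K.univ = (Over.pullback f).map h' ≫ K.univ) : h = h' := by
  have hT : ∀ z : T.left, T.hom z ∈ Set.range K.j := fun z => by
    rw [← Over.w h]
    exact ⟨_, rfl⟩
  refine Over.OverMorphism.ext (Scheme.hom_ext_of_forall _ _ fun z => ?_)
  obtain ⟨C, _, _, k, hk, hz⟩ := K.exists_TC hT z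
  refine ⟨k.left.opensRange, hz, ?_⟩
  rw [← cancel_epi k.left.isoOpensRange.hom]
  simp only [← Category.assoc, Scheme.Hom.isoOpensRange_hom_ι]
  obtain ⟨θ, hθ⟩ := K.exists_Tmap (k ≫ h)
  obtain ⟨θ', hθ'⟩ := K.exists_Tmap (k ≫ h')
  have e' : K.elt (K.κ.push θ) = K.elt (K.κ.push θ') := by
    rw [← K.map_univ, ← K.map_univ, hθ, hθ', Functor.map_comp, Functor.map_comp, Category.assoc, Category.assoc, e]
  rw [← Over.comp_left, ← Over.comp_left, ← hθ, ← hθ', K.κ.push_injective (K.elt_injective e')]

/-- Existence of the classifying map. -/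
theorem exists_hom {T : Over S} (a : Pt f X' T) (hT : ∀ z : T.left, T.hom z ∈ Set.range K.j)
    (ha : ∀ w, a.left w ∈ Set.range K.v) : ∃ h : T ⟶ K.Z, (Over.pullback f).map h ≫ K.univ = a := by
  have H : ∀ z : T.left, ∃ (C : Over S) (k : C ⟶ T) (h : C ⟶ K.Z), IsOpenImmersion k.left ∧ z ∈ Set.range k.left ∧
      (Over.pullback f).map h ≫ K.univ = (Over.pullback f).map k ≫ a := fun z => by
    obtain ⟨C, _, _, k, hk, hz⟩ := K.exists_TC hT z
    obtain ⟨φ, hφ⟩ := K.exists_elt ((Over.pullback f).map k ≫ a) fun w => ha _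
    obtain ⟨θ, rfl⟩ := K.κ.push_surjective φ
    exact ⟨_, k, K.Tmap θ, hk, hz, (K.map_univ θ).trans hφ⟩
  choose C k h hk hz he using H
  haveI := hk
  let 𝒰 : T.left.OpenCover := {
    I₀ := T.left
    X := fun z => (C z).left
    f := fun z => (k z).left
    mem₀ := by
      rw [Scheme.presieve₀_mem_precoverage_iff]
      exact ⟨fun z => ⟨z, hz z⟩, fun z => hk z⟩ }
  let g : T.left ⟶ K.Z.left := 𝒰.glueMorphisms (fun z => (h z).left) fun z z' => by
    let P : Over S := Over.mk (pullback.fst (𝒰.f z) (𝒰.f z') ≫ (C z).hom)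
    let p₁ : P ⟶ C z := Over.homMk (pullback.fst _ _) rfl
    let p₂ : P ⟶ C z' := Over.homMk (pullback.snd _ _) (by
      change pullback.snd _ _ ≫ (C z').hom = pullback.fst _ _ ≫ (C z).hom
      rw [← Over.w (k z'), ← Over.w (k z), ← Category.assoc, ← Category.assoc]
      exact congrArg (· ≫ T.hom) pullback.condition.symm)
    have e : p₁ ≫ k z = p₂ ≫ k z' := Over.OverMorphism.ext pullback.condition
    refine congrArg CommaMorphism.left (K.hom_ext (h := p₁ ≫ h z) (h' := p₂ ≫ h z') ?_)
    rw [Functor.map_comp, Category.assoc, he, Functor.map_comp, Category.assoc, he, ← Category.assoc,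
      ← Category.assoc, ← Functor.map_comp, ← Functor.map_comp, e]
  have hg : ∀ z, (k z).left ≫ g = (h z).left := fun z => by exact Scheme.Cover.ι_glueMorphisms 𝒰 (fun z => (h z).left) _ z
  let G : T ⟶ K.Z := Over.homMk g (by
    refine 𝒰.hom_ext _ _ fun z => ?_
    change (k z).left ≫ g ≫ K.Z.hom = (k z).left ≫ T.hom
    rw [reassoc_of% (hg z), Over.w, Over.w])
  refine ⟨G, pt_ext f X' k (fun z => ⟨z, hz z⟩) fun z => ?_⟩
  rw [← Category.assoc, ← Functor.map_comp, show k z ≫ G = h z from Over.OverMorphism.ext (hg z), he]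

end Chart

end GrothLib.WeilHomeo4
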