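import Groth.Agent.Lib.WeilHomeo4.Chart
import Groth.Agent.Lib.RepOver25.Glue
import Groth.Prelude.Def_Flat

/-!
# Weil restriction along finite locally free universal homeomorphisms
-/

set_option autoImplicit false
set_option backward.isDefEq.respectTransparency false
set_option backward.isDefEq.respectTransparency.types false

universe u

open CategoryTheory CategoryTheory.Limits AlgebraicGeometry Opposite

noncomputable section

namespace GrothLib.WeilHomeo4

variable {S S' : Scheme.{u}} (f : S' ⟶ S) (X' : Over S')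

theorem isSheaf_functor :
    Presieve.IsSheaf (Scheme.zariskiTopology.over S) (WeilRes.functor f X') := by
  have h : Presieve.IsSheaf (Scheme.zariskiTopology.over S') (yoneda.obj X') :=
    GrothendieckTopology.Subcanonical.isSheaf_of_isRepresentable _
  exact Functor.op_comp_isSheaf_of_types (Over.pullback f) (Scheme.zariskiTopology.over S)
    (Scheme.zariskiTopology.over S') ⟨yoneda.obj X', (isSheaf_iff_isSheaf_of_type _ _).2 h⟩

/-- Indices of charts. -/
def Idx : Type u :=
  {p : S.affineOpens × X'.left.affineOpens // (p.2 : X'.left.Opens) ≤ X'.hom ⁻¹ᵁ f ⁻¹ᵁ (p.1 : S.Opens)}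

variable [IsFinite f] [Flat f] [LocallyOfFinitePresentation f]

variable {f X'}

/-- The open of the base of a chart. -/
abbrev Idx.V (l : Idx f X') : S.Opens := l.1.1.1

/-- The open of the scheme of a chart. -/
abbrev Idx.U (l : Idx f X') : X'.left.Opens := l.1.2.1

theorem Idx.hV (l : Idx f X') : IsAffineOpen l.V := l.1.1.2

theorem Idx.hV' (l : Idx f X') : IsAffineOpen (f ⁻¹ᵁ l.V) := l.hV.preimage f

theorem Idx.hU (l : Idx f X') : IsAffineOpen l.U := l.1.2.2

instance (l : Idx f X') : Algebra Γ(S, l.V) Γ(S', f ⁻¹ᵁ l.V) := (f.appLE l.V (f ⁻¹ᵁ l.V) le_rfl).hom.toAlgebra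

instance (l : Idx f X') : Algebra Γ(S', f ⁻¹ᵁ l.V) Γ(X'.left, l.U) :=
  (X'.hom.appLE (f ⁻¹ᵁ l.V) l.U l.2).hom.toAlgebra

theorem Idx.nonempty_coords (l : Idx f X') :
    Nonempty (GrothLib.WeilAff.Coords Γ(S, l.V) Γ(S', f ⁻¹ᵁ l.V)) := by
  haveI : Module.Flat Γ(S, l.V) Γ(S', f ⁻¹ᵁ l.V) := f.flat_appLE l.hV l.hV' le_rfl
  haveI : Algebra.FinitePresentation Γ(S, l.V) Γ(S', f ⁻¹ᵁ l.V) := f.finitePresentation_appLE l.hV l.hV' le_rfl
  haveI : Module.Finite Γ(S, l.V) Γ(S', f ⁻¹ᵁ l.V) := by
    have h := f.finite_app l.V l.hV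
    rw [Scheme.Hom.app_eq_appLE] at h
    exact h
  haveI : Module.FinitePresentation Γ(S, l.V) Γ(S', f ⁻¹ᵁ l.V) :=
    Module.FinitePresentation.of_finite_of_finitePresentation _ _
  haveI : Module.Projective Γ(S, l.V) Γ(S', f ⁻¹ᵁ l.V) := Module.Flat.projective_of_finitePresentation
  exact GrothLib.WeilAff.nonempty_coords _ _

/-- The chart. -/
def Idx.chart (l : Idx f X') : Chart f X' Γ(S, l.V) Γ(S', f ⁻¹ᵁ l.V) Γ(X'.left, l.U) where
  j := l.hV.fromSpec
  j' := l.hV'.fromSpec
  v := l.hU.fromSpec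
  open_j := inferInstance
  open_j' := inferInstance
  open_v := inferInstance
  sq := (IsOpenImmersion.isPullback _ l.hV'.fromSpec l.hV.fromSpec f
    (l.hV.SpecMap_appLE_fromSpec f l.hV' le_rfl).symm
    (by rw [IsAffineOpen.opensRange_fromSpec, IsAffineOpen.opensRange_fromSpec])).flip
  comp_v := (l.hV'.SpecMap_appLE_fromSpec X'.hom l.hU l.2).symm
  κ := l.nonempty_coords.some

omit [IsFinite f] [Flat f] [LocallyOfFinitePresentation f] in
theorem isClosedMap_fst (hf : FlatMor.IsUnivHomeo f) (T : Over S) :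
    IsHomeomorph (pullback.fst T.hom f).base :=
  hf (pullback.snd T.hom f) T.hom _ (IsPullback.of_hasPullback T.hom f)

/-- The open subfunctor of a chart. -/
def openOf (hf : FlatMor.IsUnivHomeo f) (l : Idx f X') {T : Over S} (a : Pt f X' T) : T.left.Opens where
  carrier := T.hom ⁻¹' (l.V : Set S) ∩ ((pullback.fst T.hom f).base '' (a.left ⁻¹' (l.U : Set X'.left))ᶜ)ᶜ
  is_open' := (l.V.2.preimage T.hom.continuous).inter
    ((isClosedMap_fst hf T).isClosedMap _ (l.U.2.preimage a.left.continuous).isClosed_compl).isOpen_compl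

theorem exists_weilRes (hf : FlatMor.IsUnivHomeo f) :
    ∃ (R : Over S) (q : Red.bc f R ⟶ X'), WeilRes.IsWeilRes f X' R q := by
  refine ((GrothLib.RepOver.exists_representableBy (F := WeilRes.functor f X') (isSheaf_functor f X')
    (fun l : Idx f X' => l.chart.Z) (fun l => l.chart.univ) (fun l {T} a => openOf hf l a) ?_ ?_ ?_).elim
      fun P hP => hP.elim fun e => ⟨P, e.homEquiv (𝟙 P), WeilRes.IsWeilRes.of_representableBy e⟩)
  · intro l T a T' g
    constructor
    · intro hg
      obtain ⟨h, hh⟩ := l.chart.exists_hom ((Over.pullback f).map g ≫ a) (fun z => by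
          change T'.hom z ∈ Set.range l.hV.fromSpec
          rw [l.hV.range_fromSpec, ← Over.w g]
          exact (hg ⟨z, rfl⟩).1) (fun w => by
          change a.left (((Over.pullback f).map g).left w) ∈ Set.range l.hU.fromSpec
          rw [l.hU.range_fromSpec]
          by_contra hc
          refine (hg ⟨(pullback.fst T'.hom f).base w, rfl⟩).2 ⟨_, hc, ?_⟩
          exact congrArg (fun m => m w) (isPullback_map f g).w)
      exact ⟨h, hh⟩
    · rintro ⟨h, hh⟩ _ ⟨z, rfl⟩
      refine ⟨?_, fun ⟨w, hw, hwz⟩ => hw ?_⟩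
      · change T.hom (g.left z) ∈ (l.V : Set S)
        rw [← l.hV.range_fromSpec, ← Scheme.Hom.comp_apply, Over.w g, ← Over.w h]
        exact ⟨_, rfl⟩
      · obtain ⟨w', hw', -⟩ := Scheme.exists_preimage_of_isPullback (isPullback_map f g) w z hwz
        have hh' : (Over.pullback f).map h ≫ l.chart.univ = (Over.pullback f).map g ≫ a := hh
        have := congrArg (fun m => m.left w') hh'
        change a.left w ∈ (l.U : Set X'.left)
        rw [← l.hU.range_fromSpec, ← hw']
        exact ⟨_, this⟩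
  · exact fun l T h h' e => l.chart.hom_ext e
  · intro T a z
    obtain ⟨w, hw⟩ := (isClosedMap_fst hf T).surjective z
    obtain ⟨V, hV, hzV, -⟩ := exists_isAffineOpen_mem_and_subset (x := T.hom z) (U := ⊤) trivial
    obtain ⟨U, hU, hwU, hUV⟩ := exists_isAffineOpen_mem_and_subset (x := a.left w) (U := X'.hom ⁻¹ᵁ f ⁻¹ᵁ V) (by
      have h1 : a.left ≫ X'.hom = pullback.snd T.hom f := Over.w a
      change f (X'.hom (a.left w)) ∈ V
      rw [← Scheme.Hom.comp_apply a.left, h1, ← Scheme.Hom.comp_apply, ← pullback.condition, Scheme.Hom.comp_apply]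
      exact hw ▸ hzV)
    refine ⟨⟨(⟨V, hV⟩, ⟨U, hU⟩), hUV⟩, hzV, ?_⟩
    rintro ⟨w', hw', hwz⟩
    obtain rfl : w' = w := (isClosedMap_fst hf T).injective (hwz.trans hw.symm)
    exact hw' hwU

end GrothLib.WeilHomeo4
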